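import Groth.Agent.Lib.SmoothLift.SmallExt

/-!
Smoothness at a point by lifting along small extensions centred at the point.
-/

set_option autoImplicit false
set_option linter.style.haveILetI false

universe u

open IsLocalRing CategoryTheory AlgebraicGeometry

namespace Groth.Agent.Lib.SmoothAt6

variable {X Y : Scheme.{u}}

theorem exists_smooth_nhd_of_lifting (f : X ⟶ Y) [IsLocallyNoetherian Y] [LocallyOfFiniteType f] (x : X)
    (H : ∀ (B' B : Type u) [CommRing B'] [CommRing B] [IsLocalRing B'] [IsLocalRing B]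
      [IsArtinianRing B'] [IsArtinianRing B] (φ : B' →+* B), Function.Surjective φ →
      (∃ t : B', RingHom.ker φ = Ideal.span {t} ∧ ∀ a ∈ maximalIdeal B', a * t = 0) →
      ∀ (α : Spec (CommRingCat.of B) ⟶ X) (β : Spec (CommRingCat.of B') ⟶ Y),
        α (closedPoint B) = x → Spec.map (CommRingCat.ofHom φ) ≫ β = α ≫ f →
        ∃ γ : Spec (CommRingCat.of B') ⟶ X,
          Spec.map (CommRingCat.ofHom φ) ≫ γ = α ∧ γ ≫ f = β) :
    ∃ W : X.Opens, x ∈ W ∧ Smooth (W.ι ≫ f) := by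
  haveI : LocallyOfFinitePresentation f := Groth.Agent.H34.EtaleAt.locallyOfFinitePresentation f
  rw [Unram.ArtinianLifting.exists_smooth_nhd_iff]
  obtain ⟨U, hU, hxU, -⟩ := exists_isAffineOpen_mem_and_subset (U := ⊤) (Set.mem_univ (f x))
  obtain ⟨V, hV, hxV, hVU'⟩ :=
    exists_isAffineOpen_mem_and_subset (U := f ⁻¹ᵁ U) (show x ∈ f ⁻¹ᵁ U from hxU)
  have hVU : V ≤ f ⁻¹ᵁ U := hVU'
  rw [formallySmooth_stalkMap_iff U hU V hV hVU hxV]
  haveI : IsNoetherianRing Γ(Y, U) := IsLocallyNoetherian.component_noetherian ⟨U, hU⟩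
  haveI := hV.isOpenImmersion_fromSpec
  have hft := f.finiteType_appLE hU hV hVU
  let R : Type u := Γ(Y, U)
  let S : Type u := Γ(X, V)
  letI : Algebra R S := (f.appLE U V hVU).hom.toAlgebra
  haveI : Algebra.FiniteType R S := hft
  refine SmoothLift.SmallExt.isSmoothAt (hV.primeIdealOf ⟨x, hxV⟩).asIdeal (fun _ _ _ => True)
    (fun _ _ _ _ _ _ _ _ => trivial) ?_
  intro B' B _ _ _ _ _ _ _ _ π _ hπ ht g hgq
  have hcomm : CommRingCat.ofHom (algebraMap R B') ≫ CommRingCat.ofHom π.toRingHom =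
      f.appLE U V hVU ≫ CommRingCat.ofHom g.toRingHom :=
    CommRingCat.hom_ext (RingHom.ext fun r ↦ (π.commutes r).trans (g.commutes r).symm)
  have hpt : (Spec.map (CommRingCat.ofHom g.toRingHom) ≫ hV.fromSpec) (closedPoint B) = x := by
    have e : (Spec.map (CommRingCat.ofHom g.toRingHom)) (closedPoint B) = hV.primeIdealOf ⟨x, hxV⟩ :=
      PrimeSpectrum.ext hgq
    rw [Scheme.Hom.comp_apply, e]
    exact hV.fromSpec_primeIdealOf ⟨x, hxV⟩
  obtain ⟨γ, hγ₁, hγ₂⟩ := H B' B π.toRingHom hπ ht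
    (Spec.map (CommRingCat.ofHom g.toRingHom) ≫ hV.fromSpec)
    (Spec.map (CommRingCat.ofHom (algebraMap R B')) ≫ hU.fromSpec) hpt
    (by
      rw [Category.assoc, ← IsAffineOpen.SpecMap_appLE_fromSpec f hU hV hVU,
        ← Spec.map_comp_assoc, ← Spec.map_comp_assoc]
      exact congrArg (Spec.map · ≫ hU.fromSpec) hcomm)
  have hrange : Set.range γ ⊆ Set.range hV.fromSpec := by
    rintro _ ⟨z, rfl⟩
    haveI := z.isPrime
    have hmax : ∀ a : PrimeSpectrum B', a.asIdeal = maximalIdeal B' := fun a ↦ by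
      haveI := a.isPrime
      exact IsLocalRing.eq_maximalIdeal (IsArtinianRing.isMaximal_of_isPrime a.asIdeal)
    haveI : Subsingleton ↥(Spec (CommRingCat.of B')) :=
      ⟨fun a b ↦ PrimeSpectrum.ext ((hmax a).trans (hmax b).symm)⟩
    obtain ⟨z₀, rfl⟩ : ∃ z₀, (Spec.map (CommRingCat.ofHom π.toRingHom)) z₀ = z :=
      ⟨closedPoint B, Subsingleton.elim _ _⟩
    rw [← Scheme.Hom.comp_apply, hγ₁]
    exact ⟨_, rfl⟩
  obtain ⟨ψ, hψ⟩ := Spec.map_surjective (IsOpenImmersion.lift hV.fromSpec γ hrange)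
  have hψ₁ : ψ ≫ CommRingCat.ofHom π.toRingHom = CommRingCat.ofHom g.toRingHom := by
    apply Spec.map_injective
    rw [Spec.map_comp, hψ, ← cancel_mono hV.fromSpec, Category.assoc,
      IsOpenImmersion.lift_fac, hγ₁]
  have hψ₂ : f.appLE U V hVU ≫ ψ = CommRingCat.ofHom (algebraMap R B') := by
    haveI := hU.isOpenImmersion_fromSpec
    apply Spec.map_injective
    rw [Spec.map_comp, hψ, ← cancel_mono hU.fromSpec, Category.assoc,
      IsAffineOpen.SpecMap_appLE_fromSpec f hU hV hVU, IsOpenImmersion.lift_fac_assoc, hγ₂]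
  exact ⟨⟨ψ.hom, fun r ↦ congr($(hψ₂).hom r)⟩, AlgHom.ext fun s ↦ congr($(hψ₁).hom s)⟩

end Groth.Agent.Lib.SmoothAt6
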