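import Groth.Agent.Lib.SmoothAt6.Scheme
import Groth.Agent.Lib.SmoothLift.SmallExtSp
import Groth.Agent.Lib.AlgSpace.OpenSubExists
import Groth.Agent.Lib.AlgSpDecent.Core
import Groth.Prelude.Def_AlgSpDec

/-!
Smoothness at a point of a morphism of algebraic spaces and infinitesimal lifting.
-/

set_option autoImplicit false
set_option linter.style.haveILetI false

universe u

open CategoryTheory CategoryTheory.Limits AlgebraicGeometry IsLocalRing
open Groth.Agent.Lib.AlgSpace Groth.Agent.Lib.AlgSpFormal Groth.Agent.Lib.AlgSpMor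
open Groth.Agent.Lib.AlgSpDecent

namespace Groth.Agent.Lib.SmoothAt6

open AlgSp (Sp yon Representable RepWith IsAlgSpace LocP)
open AlgSp

variable {S : Scheme.{u}} {X Y : Sp S} {f : X ⟶ Y}

theorem exists_lift_of_smoothAt (hX : IsAlgSpace X) (hY : IsAlgSpace Y) {x : Points X}
    (hx : HasAtMor (fun U _ h u => ∃ W : U.Opens, u ∈ W ∧ Smooth (W.ι ≫ h)) f x)
    {B B' : Type u} [CommRing B] [CommRing B'] [IsLocalRing B] (π : B' →+* B) (hπ : Function.Surjective π)
    (hsq : RingHom.ker π ^ 2 = ⊥) (s : Spec (CommRingCat.of B') ⟶ S)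
    (α : (yon S).obj (Over.mk (Spec.map (CommRingCat.ofHom π) ≫ s)) ⟶ X)
    (β : (yon S).obj (Over.mk s) ⟶ Y) (hα : Points.ofPt α (closedPoint B) = x)
    (w : α ≫ f = (yon S).map
      (Over.homMk (Spec.map (CommRingCat.ofHom π)) :
        Over.mk (Spec.map (CommRingCat.ofHom π) ≫ s) ⟶ Over.mk s) ≫ β) :
    ∃ γ : (yon S).obj (Over.mk s) ⟶ X,
      (yon S).map (Over.homMk (Spec.map (CommRingCat.ofHom π)) :
        Over.mk (Spec.map (CommRingCat.ofHom π) ≫ s) ⟶ Over.mk s) ≫ γ = α ∧ γ ≫ f = β := by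
  obtain ⟨U, V, a, b, h, u, ha, hb, hw, hu, W, huW, hW⟩ := hx
  haveI : MorphismProperty.IsStableUnderComposition (@Etale : MorphismProperty Scheme.{u}) :=
    ⟨fun f g (_ : Etale f) (_ : Etale g) ↦ inferInstanceAs (Etale (f ≫ g))⟩
  let U₁ : Over S := Over.mk (W.ι ≫ U.hom)
  let i₁ : U₁ ⟶ U := Over.homMk W.ι
  let a₁ : (yon S).obj U₁ ⟶ X := (yon S).map i₁ ≫ a
  have ha₁ : RepWith @Etale a₁ :=
    repWith_comp ((AlgSp.repWith_yon_map_iff _ _).2 (inferInstanceAs (Etale W.ι))) ha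
  obtain ⟨X₀, j, hX₀, hj, hr⟩ := exists_open_subspace hX (Core.isOpen_range_ofPt ha₁)
  haveI : Mono j := mono_of_repWith (P := @IsOpenImmersion)
    (fun _ _ g (_ : IsOpenImmersion g) ↦ (inferInstance : Mono g)) hj
  obtain ⟨a₀, ha₀⟩ := exists_lift_yon_of_range_subset hj a₁ hr.ge
  have sq₀ : IsPullback (𝟙 ((yon S).obj U₁)) a₀ a₁ j :=
    isPullback_of_yon (by rw [Category.id_comp, ha₀])
      (fun T c c' h1 _ => by simpa using h1)
      (fun T c d e => ⟨c, Category.comp_id c, by rw [← cancel_mono j, Category.assoc, ha₀, e]⟩)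
  have hea : RepWith @Etale a₀ := repWith_baseChange sq₀ ha₁
  have hsa : RepWith @Surjective a₀ := Core.repWith_surjective_of_surjective hea.rep fun z => by
    obtain ⟨v, hv⟩ := hr.le (Set.mem_range_self z)
    refine ⟨v, Core.injective_map_of_mono j ?_⟩
    rw [Points.map_ofPt, ha₀, hv]
  have hcomm : a₀ ≫ j ≫ f = (yon S).map (i₁ ≫ h) ≫ b := by
    rw [reassoc_of% ha₀, Functor.map_comp]
    simp only [a₁, Category.assoc]
    rw [← hw]
  have hf₀ : LocP @Smooth (j ≫ f) :=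
    LocP.locP_of_chart SourceDescent.Scheme.smooth hX₀.diag hY.diag hea hsa hb hcomm hW
  -- the map from the local scheme factors through the open subspace
  have hsub : Set.range (Points.ofPt α) ⊆ Set.range (Points.map j) := by
    rintro _ ⟨t, rfl⟩
    have ho : IsOpen (Points.ofPt α ⁻¹' Set.range (Points.map j)) :=
      (hr ▸ Core.isOpen_range_ofPt ha₁).preimage (Points.continuous_ofPt α)
    have hxj : x ∈ Set.range (Points.map j) := hr ▸
      ⟨⟨u, huW⟩, by rw [show a₁ = (yon S).map i₁ ≫ a from rfl, Core.ofPt_map_comp]; exact hu⟩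
    have hc : Points.ofPt α (closedPoint B) ∈ Set.range (Points.map j) := hα.symm ▸ hxj
    exact (IsLocalRing.specializes_closedPoint (R := B) t).mem_open ho hc
  obtain ⟨α₀, rfl⟩ := exists_lift_yon_of_range_subset hj α hsub
  obtain ⟨γ, hγ₁, hγ₂⟩ := SmoothLift.SmallExtSp.exists_lift_of_smooth hX₀ hY hf₀ π hπ hsq s α₀ β
    (by rw [← Category.assoc]; exact w)
  exact ⟨γ ≫ j, by rw [reassoc_of% hγ₁], by rw [Category.assoc, hγ₂]⟩

theorem smoothAt_of_lifting (hX : IsAlgSpace X) (hY : IsAlgSpace Y) (hYn : IsLocNoethSp Y)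
    (hft : LocP @LocallyOfFiniteType f) (x : Points X)
    (H : ∀ (B' B : Type u) [CommRing B'] [CommRing B] [IsLocalRing B'] [IsLocalRing B]
      [IsArtinianRing B'] [IsArtinianRing B] (π : B' →+* B), Function.Surjective π →
      (∃ t : B', RingHom.ker π = Ideal.span {t} ∧ ∀ a ∈ maximalIdeal B', a * t = 0) →
      ∀ (s : Spec (CommRingCat.of B') ⟶ S)
        (α : (yon S).obj (Over.mk (Spec.map (CommRingCat.ofHom π) ≫ s)) ⟶ X)
        (β : (yon S).obj (Over.mk s) ⟶ Y),
        Points.ofPt α (closedPoint B) = x →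
        α ≫ f = (yon S).map
          (Over.homMk (Spec.map (CommRingCat.ofHom π)) :
            Over.mk (Spec.map (CommRingCat.ofHom π) ≫ s) ⟶ Over.mk s) ≫ β →
        ∃ γ : (yon S).obj (Over.mk s) ⟶ X,
          (yon S).map (Over.homMk (Spec.map (CommRingCat.ofHom π)) :
            Over.mk (Spec.map (CommRingCat.ofHom π) ≫ s) ⟶ Over.mk s) ≫ γ = α ∧
            γ ≫ f = β) :
    HasAtMor (fun U _ h u => ∃ W : U.Opens, u ∈ W ∧ Smooth (W.ι ≫ h)) f x := by
  obtain ⟨V, b, hb, hbs, hV⟩ := hYn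
  obtain ⟨U, a, h, ha, has, w⟩ := LocP.exists_chart_over hX hY f hb hbs
  haveI : IsLocallyNoetherian V.left := hV
  haveI : LocallyOfFiniteType h.left := hft a b h ha hb w
  obtain ⟨u, rfl⟩ := Core.surjective_ofPt has x
  refine ⟨U, V, a, b, h, u, ha, hb, w, rfl, exists_smooth_nhd_of_lifting h.left u ?_⟩
  intro B' B _ _ _ _ _ _ φ hφ ht α β hα hw
  let s : Spec (CommRingCat.of B') ⟶ S := β ≫ V.hom
  let β' : Over.mk s ⟶ V := Over.homMk β
  let α' : Over.mk (Spec.map (CommRingCat.ofHom φ) ≫ s) ⟶ U := Over.homMk α (by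
    show α ≫ U.hom = Spec.map (CommRingCat.ofHom φ) ≫ β ≫ V.hom
    rw [← Category.assoc, hw, Category.assoc, Over.w h])
  let g : Over.mk (Spec.map (CommRingCat.ofHom φ) ≫ s) ⟶ Over.mk s :=
    Over.homMk (Spec.map (CommRingCat.ofHom φ))
  have hg : g ≫ β' = α' ≫ h := Over.OverMorphism.ext hw
  have hg' : (yon S).map g ≫ (yon S).map β' = (yon S).map α' ≫ (yon S).map h := by
    rw [← (yon S).map_comp g β', ← (yon S).map_comp α' h, hg]
  haveI : IsClosedImmersion g.left :=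
    IsClosedImmersion.spec_of_surjective (CommRingCat.ofHom φ) hφ
  haveI : IsAffine (Over.mk s).left := inferInstanceAs (IsAffine (Spec _))
  obtain ⟨t, ht1, ht2⟩ := ht
  have hI := Yon.ker_appTop_specMap_sq (CommRingCat.ofHom φ)
    (SmoothLift.SmallExt.ker_sq_eq_bot φ t ht1 fun m hm => by rw [mul_comm]; exact ht2 m hm)
  obtain ⟨γ, hγ₁, hγ₂⟩ := H B' B φ hφ ⟨t, ht1, ht2⟩ s
    ((yon S).map α' ≫ a) ((yon S).map β' ≫ b)
    (by rw [Core.ofPt_map_comp]; exact congrArg _ hα)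
    (by rw [Category.assoc ((yon S).map α'), w, ← Category.assoc ((yon S).map α'), ← hg',
      Category.assoc ((yon S).map g)])
  obtain ⟨l, ⟨hl₁, hl₂⟩, -⟩ := Yon.lift_existsUnique_of_affine
    (Yon.isFormallyEtaleMor_of_etale ha) g hI ((yon S).map α') γ hγ₁
  obtain ⟨γ', rfl⟩ := (yon S).map_surjective l
  have hγh : (yon S).map γ' ≫ (yon S).map h = (yon S).map β' :=
    Yon.lift_unique_of_affine
      (Yon.formallyUnramified_of_formallyEtale (Yon.isFormallyEtaleMor_of_etale hb)) g hI _ _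
      (by rw [← Category.assoc ((yon S).map g), hl₁, hg'])
      (by rw [Category.assoc ((yon S).map γ'), ← w, ← Category.assoc ((yon S).map γ'), hl₂, hγ₂])
  rw [← (yon S).map_comp γ' h] at hγh
  rw [← (yon S).map_comp g γ'] at hl₁
  exact ⟨γ'.left, congrArg (fun k : _ ⟶ U ↦ k.left) ((yon S).map_injective hl₁),
    congrArg (fun k : _ ⟶ V ↦ k.left) ((yon S).map_injective hγh)⟩

end Groth.Agent.Lib.SmoothAt6
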